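import Groth.Prelude.Def_Bivar
import Groth.Agent.Lib.Cyc.C1Indep
import Groth.Agent.Lib.Cyc.Gys.Closed
import Groth.Agent.Lib.Cyc.DimFun
import Mathlib

/-!
# `c₁` cap with sections from local generators
-/

set_option autoImplicit false
set_option linter.style.haveILetI false

universe u

open CategoryTheory AlgebraicGeometry TopologicalSpace

namespace Groth.Agent.H19.Cycle.C1Gen

open Groth.Agent.Lib Groth.Agent.Lib.Cyc Groth.Agent.Lib.TensorMod

variable {X Y : Scheme.{u}} {L : X.Modules}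

theorem span_germ {U : X.Opens} {e : Γ(L, U)} (he : Gen.IsGen L U e) (x : X) (hx : x ∈ U) :
    Submodule.span (X.presheaf.stalk x) {L.presheaf.germ U x hx e} = ⊤ := by
  refine eq_top_iff.mpr fun v _ => ?_
  obtain ⟨V, hxV, m, rfl⟩ := TopCat.Presheaf.exists_germ_eq L.presheaf v
  obtain ⟨a, ha⟩ := (he (V ⊓ U) inf_le_right).2 (L.presheaf.map (homOfLE inf_le_left).op m)
  refine Submodule.mem_span_singleton.mpr ⟨X.presheaf.germ (V ⊓ U) x ⟨hxV, hx⟩ a, ?_⟩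
  rw [← TopCat.Presheaf.germ_res_apply L.presheaf (homOfLE (inf_le_left : V ⊓ U ≤ V)) x ⟨hxV, hx⟩ m,
    ← ha, Modules.StalkModule.germ_smul]
  congr 1
  exact (TopCat.Presheaf.germ_res_apply L.presheaf (homOfLE (inf_le_right : V ⊓ U ≤ U)) x
    ⟨hxV, hx⟩ e).symm

variable (g : Y ⟶ X) {U : X.Opens} {e : Γ(L, U)}

/-- The section of the pulled back module at `ξ` given by a local generator. -/
noncomputable def genSec (e : Γ(L, U)) (ξ : Y) (hξ : g ξ ∈ U) :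
    Cyc.secFibre ((Scheme.Modules.pullback g).obj L) ξ :=
  Submodule.Quotient.mk (DerivedOX.PullbackStalk.unitStalk g ξ L (L.presheaf.germ U (g ξ) hξ e))

theorem genSec_ne_zero (hL : PicF.IsInvertible ((Scheme.Modules.pullback g).obj L)) (he : Gen.IsGen L U e)
    (ξ : Y) (hξ : g ξ ∈ U) : genSec g e ξ hξ ≠ 0 :=
  C1Indep.mk_ne_zero hL ξ (Gys.Closed.exists_gen_pullback g L ξ _ (span_germ he _ hξ))

theorem secDivFun_genSec [IsLocallyNoetherian Y] {δ : Y → ℤ} (hδ : Cyc.IsDimFun Y δ)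
    (hL : PicF.IsInvertible ((Scheme.Modules.pullback g).obj L)) (he : Gen.IsGen L U e)
    (ξ z : Y) (hξ : g ξ ∈ U) (hz : g z ∈ U) :
    Cyc.secDivFun δ ((Scheme.Modules.pullback g).obj L) ξ (genSec g e ξ hξ) z = 0 := by
  simp only [Cyc.secDivFun]
  split_ifs with hc
  swap
  · rfl
  rw [C1Indep.secOrdAt_eq hδ hL z ξ hc.1 hc.2.ge _ (genSec_ne_zero g hL he ξ hξ)
    (DerivedOX.PullbackStalk.unitStalk g z L (L.presheaf.germ U (g z) hz e))
    (Gys.Closed.exists_gen_pullback g L z _ (span_germ he _ hz)) 1 (by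
      rw [one_smul, Gys.Closed.unitStalk_specializes]
      refine congrArg (fun t => Submodule.Quotient.mk (DerivedOX.PullbackStalk.unitStalk g ξ L t)) ?_
      exact (ConcreteCategory.congr_hom (TopCat.Presheaf.germ_stalkSpecializes L.presheaf hz _) e).symm)]
  have h1 : Y.residue ξ 1 = Cyc.specMap z ξ hc.1 1 :=
    (map_one (Y.residue ξ).hom).trans (map_one (Cyc.specMap z ξ hc.1)).symm
  rw [h1]
  exact Ord.ordAt_specMap_of_isUnit hδ z ξ hc.1 hc.2.ge 1 isUnit_one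

/-- `c₁(g^* L) ∩ α` with sections from generators: a cycle, supported off the generators' domains. -/
theorem exists_c1Cap_cycle [IsLocallyNoetherian Y] {δ : Y → ℤ} (hδ : Cyc.IsDimFun Y δ)
    (hL : PicF.IsInvertible ((Scheme.Modules.pullback g).obj L)) (W : X → X.Opens) (hW : ∀ p, p ∈ W p)
    (e : ∀ p, Γ(L, W p)) (he : ∀ p, Gen.IsGen L (W p) (e p)) {k : ℤ} (α : AlgebraicCycle Y ℤ)
    (hα : α ∈ Cyc.Zk Y δ k) :
    ∃ γ : AlgebraicCycle Y ℤ, ⇑γ = Cyc.c1CapFun δ ((Scheme.Modules.pullback g).obj L) ⇑α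
        (fun ξ => genSec g (e (g ξ)) ξ (hW _)) ∧ γ ∈ Cyc.Zk Y δ (k - 1) ∧
      ∀ z, γ z ≠ 0 → ∃ ξ, α ξ ≠ 0 ∧ ξ ⤳ z ∧ g z ∉ W (g ξ) := by
  classical
  set v := fun ξ => genSec g (e (g ξ)) ξ (hW (g ξ))
  set F := Cyc.c1CapFun δ ((Scheme.Modules.pullback g).obj L) ⇑α v with hF
  have key : ∀ z, F z ≠ 0 → ∃ ξ, α ξ ≠ 0 ∧ ξ ⤳ z ∧ g z ∉ W (g ξ) ∧ δ z + 1 = δ ξ := fun z hz => by
    obtain ⟨ξ, hξ⟩ : ∃ ξ, α ξ * Cyc.secDivFun δ ((Scheme.Modules.pullback g).obj L) ξ (v ξ) z ≠ 0 := by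
      by_contra h
      push Not at h
      exact hz (finsum_eq_zero_of_forall_eq_zero h)
    obtain ⟨h1, h2⟩ := mul_ne_zero_iff.1 hξ
    by_cases hc : ξ ⤳ z ∧ δ z + 1 = δ ξ
    · exact ⟨ξ, h1, hc.1, fun hzU => h2 (secDivFun_genSec g hδ hL (he _) ξ z (hW _) hzU), hc.2⟩
    · exact absurd (dif_neg hc) h2
  refine ⟨⟨F, Set.subset_univ _, fun y _ => ?_⟩, rfl, fun z hz => ?_, fun z hz => ?_⟩
  · obtain ⟨t, ht, hfin⟩ := α.supportLocallyFiniteWithinDomain' y (Set.mem_univ y)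
    obtain ⟨O, hOt, hO, hyO⟩ := mem_nhds_iff.mp ht
    let T : Y → Set Y := fun ξ => closure {ξ} ∩ ((g ⁻¹ᵁ W (g ξ) : Y.Opens) : Set Y)ᶜ
    have hT : ∀ ξ, IsClosed (T ξ) := fun ξ => isClosed_closure.inter (g ⁻¹ᵁ W (g ξ)).2.isClosed_compl
    choose V hV hyV hfinV using fun ξ => DimFun.exists_open_finite_maxPts (hT ξ) y
    have hS : (t ∩ Function.support ⇑α).Finite := hfin
    refine ⟨O ∩ ⋂ ξ ∈ (t ∩ Function.support ⇑α), V ξ,
      Filter.inter_mem (hO.mem_nhds hyO) ((Filter.biInter_mem hS).2 fun ξ _ => (hV ξ).mem_nhds (hyV ξ)), ?_⟩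
    refine (hS.biUnion fun ξ _ => hfinV ξ).subset ?_
    rintro z ⟨⟨hzO, hzV⟩, hz⟩
    obtain ⟨ξ, hαξ, hsp, hzW, hd⟩ := key z hz
    have hξS : ξ ∈ t ∩ Function.support ⇑α := ⟨hOt (hsp.mem_open hO hzO), hαξ⟩
    refine Set.mem_biUnion hξS ⟨Set.mem_iInter₂.1 hzV ξ hξS, ⟨hsp.mem_closure, hzW⟩, fun w hw hwz => ?_⟩
    by_contra hne
    have hξw : ξ ≠ w := fun h => hw.2 (h ▸ hW (g ξ))
    have h1 := (hδ w z hwz hne).1
    have h2 := (hδ ξ w (specializes_iff_mem_closure.2 hw.1) hξw).1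
    omega
  · by_contra hne
    obtain ⟨ξ, hαξ, -, -, hd⟩ := key z hne
    have : δ ξ = k := by by_contra h; exact hαξ (hα ξ h)
    omega
  · obtain ⟨ξ, h1, h2, h3, -⟩ := key z hz
    exact ⟨ξ, h1, h2, h3⟩

/-- The dimension of the closure of a point, as a height. -/
noncomputable def ht (p : X) : ℕ∞ :=
  Order.height (⟨closure {p}, isIrreducible_singleton.closure, isClosed_closure⟩ : IrreducibleCloseds X)

theorem ht_le {d : ℕ} (hd : topologicalKrullDim X ≤ (d : WithBot ℕ∞)) (p : X) : ht p ≤ d := by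
  have h := (Order.height_le_krullDim (α := IrreducibleCloseds X)
    ⟨closure {p}, isIrreducible_singleton.closure, isClosed_closure⟩).trans hd
  exact_mod_cast h

theorem ht_add_one_le {p q : X} (h : q ⤳ p) (hne : q ≠ p) : ht p + 1 ≤ ht q := by
  refine Order.height_add_one_le (lt_of_le_of_ne (specializes_iff_closure_subset.1 h) fun he => hne ?_)
  have : p ⤳ q := specializes_iff_mem_closure.2 (by
    have := congrArg IrreducibleCloseds.carrier he
    exact this.symm.subset (subset_closure rfl))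
  exact (h.antisymm this).eq

end Groth.Agent.H19.Cycle.C1Gen
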