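import Groth.Agent.H19.Cycle.FatPoint
import Groth.Agent.H46.DvrScheme
import Groth.Agent.H46.Equidim
import Groth.Agent.Lib.Spectral.Noetherian
import Mathlib

/-!
# Effectivity of families of cycles
-/

set_option autoImplicit false
set_option linter.style.haveILetI false

universe u

open CategoryTheory CategoryTheory.Limits AlgebraicGeometry IsLocalRing

namespace Groth.Agent.H19.Cycle.Effective

open Groth.Agent.Lib Groth.Agent.Lib.Cyc

variable {X S : Scheme.{u}}

/-- The multiplicity of a point in the cycle of the fibre of a closed subscheme. -/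
noncomputable abbrev cyc (f : X ⟶ S) {Z : Scheme.{u}} (ι : Z ⟶ X) (s : S) (x : f.fiber s) : ℤ :=
  Cyc.subschemeFun (fun _ => (0 : ℤ)) 0 (pullback.snd ι (f.fiberι s)) x

theorem cyc_nonneg (f : X ⟶ S) {Z : Scheme.{u}} (ι : Z ⟶ X) (s : S) (x : f.fiber s) : 0 ≤ cyc f ι s x := by
  simp only [cyc, Cyc.subschemeFun, if_pos]
  refine finsum_nonneg ?_
  intro z
  refine finsum_nonneg ?_
  intro _
  simp

theorem exists_of_cyc_ne {W P : Scheme.{u}} (i : W ⟶ P) {t : P}
    (h : Cyc.subschemeFun (fun _ => (0 : ℤ)) 0 i t ≠ 0) : t ∈ i '' {z : W | DimFun.IsMaxPt z} := by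
  by_contra hc
  refine h ?_
  simp only [Cyc.subschemeFun, if_pos]
  refine finsum_mem_eq_zero_of_forall_eq_zero fun z hz => ?_
  by_contra hne
  exact hc ⟨z, Groth.Agent.H19.Equidim.isMaxPt_of_length_ne_top (fun h => hne (by rw [h]; rfl)), hz⟩

theorem finite_maxPts_scheme (T : Scheme.{u}) [IsNoetherian T] : {z : T | DimFun.IsMaxPt z}.Finite := by
  refine (DimFun.finite_maxPts (isClosed_univ : IsClosed (Set.univ : Set T))).subset
    fun z hz => ⟨trivial, fun y _ h => hz y h⟩

theorem finite_cyc_support (f : X ⟶ S) [LocallyOfFiniteType f] [QuasiCompact f] {Z : Scheme.{u}} (ι : Z ⟶ X)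
    [IsClosedImmersion ι] (s : S) : {x | cyc f ι s x ≠ 0}.Finite := by
  haveI : IsLocallyNoetherian (f.fiber s) := LocallyOfFiniteType.isLocallyNoetherian (f.fiberToSpecResidueField s)
  haveI : CompactSpace (f.fiber s) := QuasiCompact.compactSpace_of_compactSpace (f.fiberToSpecResidueField s)
  haveI : IsLocallyNoetherian (pullback ι (f.fiberι s)) :=
    LocallyOfFiniteType.isLocallyNoetherian (pullback.snd ι (f.fiberι s))
  haveI : CompactSpace ↥(pullback ι (f.fiberι s)) :=
    QuasiCompact.compactSpace_of_compactSpace (pullback.snd ι (f.fiberι s))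
  haveI : IsNoetherian (pullback ι (f.fiberι s)) := {}
  exact ((finite_maxPts_scheme _).image _).subset fun x hx => exists_of_cyc_ne _ hx

/-- The multiplicity in the fibre is the fibre length. -/
theorem cyc_eq (f : X ⟶ S) {Z : Scheme.{u}} (ι : Z ⟶ X) [IsClosedImmersion ι] (s : S) (x : f.fiber s) :
    ((∑ᶠ z ∈ {z : Z | ι z = f.fiberι s x},
      (Cyc.pullFun (ι ≫ f) (fun _ => 0) (fun _ => 0) 0 (fun _ => 1) z).toNat : ℕ) : ℤ) = cyc f ι s x := by
  simp only [cyc, Cyc.subschemeFun, if_pos]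
  by_cases h : ∃ z, ι z = f.fiberι s x
  · obtain ⟨z, hz⟩ := h
    obtain ⟨z', hz1, hz2⟩ := Groth.Agent.H19.Equidim.exists_pre (IsPullback.of_hasPullback ι (f.fiberι s)) z x hz
    subst hz1
    subst hz2
    rw [show {w | ι w = f.fiberι s (pullback.snd ι (f.fiberι s) z')} = {pullback.fst ι (f.fiberι s) z'} from
        Set.ext fun w => ⟨fun hw => ι.isEmbedding.injective (hw.trans hz.symm), fun hw => (congrArg ι hw).trans hz⟩,
      finsum_mem_singleton,
      show {w | pullback.snd ι (f.fiberι s) w = pullback.snd ι (f.fiberι s) z'} = {z'} from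
        Set.ext fun w => ⟨fun hw => (pullback.snd ι (f.fiberι s)).isEmbedding.injective hw, fun hw => congrArg _ hw⟩,
      finsum_mem_singleton, FibLen.pullFun_apply, if_pos (add_zero _).symm, one_mul, Int.toNat_natCast]
    have H : IsPullback (pullback.fst ι (f.fiberι s)) (pullback.snd ι (f.fiberι s) ≫ f.fiberToSpecResidueField s)
        (ι ≫ f) (S.fromSpecResidueField s) :=
      (IsPullback.of_hasPullback ι (f.fiberι s)).paste_vert
        (IsPullback.of_hasPullback f (S.fromSpecResidueField s))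
    rw [← FibreBC.fibLen_eq H z']
    haveI : Flat (pullback.snd ι (f.fiberι s) ≫ f.fiberToSpecResidueField s) :=
      FibreDeg.Basic.flat_of_field (K := S.residueField s) _
    rw [FibreBC.length_stalk (pullback.snd ι (f.fiberι s) ≫ f.fiberToSpecResidueField s) z']
    have h1 : ∀ q : ↥(Spec (S.residueField s)), Module.length ((Spec (S.residueField s)).presheaf.stalk q)
        ((Spec (S.residueField s)).presheaf.stalk q) = 1 := fun q => by
      haveI : Subsingleton ↥(Spec (S.residueField s)) := inferInstanceAs (Subsingleton (PrimeSpectrum (S.residueField s)))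
      have hf : IsField ((Spec (S.residueField s)).presheaf.stalk q) := by
        rw [IsLocalRing.isField_iff_maximalIdeal_eq, eq_bot_iff]
        intro r hr
        exact (Image.isNilpotent_of_mem q (fun w _ => Subsingleton.elim w q) r hr).eq_zero
      letI := hf.toField
      exact Module.length_eq_one (R := (Spec (S.residueField s)).presheaf.stalk q) _
    rw [h1, one_mul]
  · rw [finsum_mem_eq_zero_of_forall_eq_zero (s := {z : Z | ι z = f.fiberι s x}) (fun z hz => absurd ⟨z, hz⟩ h),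
      finsum_mem_eq_zero_of_forall_eq_zero (s := {z | pullback.snd ι (f.fiberι s) z = x})
        (fun z hz => absurd ⟨pullback.fst ι (f.fiberι s) z, ?_⟩ h), Nat.cast_zero]
    rw [← (show _ = x from hz), ← Scheme.Hom.comp_apply, pullback.condition, Scheme.Hom.comp_apply]

/-- Points with values in a field factor through the residue field. -/
theorem exists_factor {K : Type u} [Field K] (h : Spec (CommRingCat.of K) ⟶ S) {y : S}
    (hy : ∀ t, h t = y) :
    ∃ ψ : Spec (CommRingCat.of K) ⟶ Spec (S.residueField y), ψ ≫ S.fromSpecResidueField y = h ∧ Flat ψ ∧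
      Surjective ψ := by
  obtain ⟨⟨z, φ⟩, rfl⟩ := (Scheme.SpecToEquivOfField K S).symm.surjective h
  have hz : z = y := by
    rw [← hy (closedPoint K : PrimeSpectrum K)]
    exact (Scheme.fromSpecResidueField_apply z (Spec.map φ (closedPoint K : PrimeSpectrum K))).symm
  subst hz
  refine ⟨Spec.map φ, rfl, FibreDeg.Basic.flat_of_field (K := S.residueField z) (Spec.map φ), ⟨fun w => ⟨(closedPoint K : PrimeSpectrum K), ?_⟩⟩⟩
  haveI : Subsingleton ↥(Spec (S.residueField z)) := inferInstanceAs (Subsingleton (PrimeSpectrum (S.residueField z)))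
  exact Subsingleton.elim _ _

/-- Base change of fibre cycles. -/
theorem transfer (f : X ⟶ S) (y : S) {P : Scheme.{u}} {K : Type u} [Field K] {q : P ⟶ X}
    {sk : P ⟶ Spec (CommRingCat.of K)} {h : Spec (CommRingCat.of K) ⟶ S} (H : IsPullback q sk f h)
    (hy : ∀ t, h t = y) :
    ∃ g : P ⟶ f.fiber y, Surjective g ∧ g ≫ f.fiberι y = q ∧
      ∀ {V Q : Scheme.{u}} (i : V ⟶ X) [IsClosedImmersion i] (j : Q ⟶ P) (w : Q ⟶ V),
        IsPullback w j i q → ∀ t, Cyc.subschemeFun (fun _ => (0 : ℤ)) 0 j t =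
          cyc f i y (g t) * ((FibLen.fibLen g t).toNat : ℤ) := by
  obtain ⟨ψ, hψ, hψf, hψs⟩ := exists_factor h hy
  let g : P ⟶ f.fiber y := pullback.lift q (sk ≫ ψ) (by rw [Category.assoc, hψ]; exact H.w)
  have hsq : IsPullback g sk (f.fiberToSpecResidueField y) ψ := by
    refine IsPullback.of_right ?_ (pullback.lift_snd _ _ _) (IsPullback.of_hasPullback f (S.fromSpecResidueField y))
    rw [hψ, show g ≫ pullback.fst f (S.fromSpecResidueField y) = q from pullback.lift_fst _ _ _]
    exact H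
  haveI : Flat g := MorphismProperty.of_isPullback hsq.flip hψf
  refine ⟨g, MorphismProperty.of_isPullback hsq.flip hψs, pullback.lift_fst _ _ _, fun {V Q} i _ j w hw t => ?_⟩
  haveI : IsClosedImmersion j := MorphismProperty.of_isPullback hw ‹IsClosedImmersion i›
  let gA : Q ⟶ pullback i (f.fiberι y) := pullback.lift w (j ≫ g)
    (by rw [Category.assoc, show g ≫ f.fiberι y = q from pullback.lift_fst _ _ _]; exact hw.w)
  have h2 : IsPullback gA j (pullback.snd i (f.fiberι y)) g :=
    IsPullback.of_right (by rw [pullback.lift_fst, show g ≫ f.fiberι y = q from pullback.lift_fst _ _ _]; exact hw)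
      (pullback.lift_snd _ _ _) (IsPullback.of_hasPullback i (f.fiberι y))
  exact FibreBC.subschemeFun_baseChange h2.flip t

variable [IsNoetherian S] (f : X ⟶ S) [LocallyOfFiniteType f] [QuasiCompact f] (r : ℕ) {A : Type} [Fintype A]
  (Z : A → Scheme.{u}) (ι : ∀ a, Z a ⟶ X) [∀ a, IsClosedImmersion (ι a)] [∀ a, Flat (ι a ≫ f)]
  (hr : ∀ a, Cyc.HasRelDim (ι a ≫ f) r)

include hr in
/-- Specialization preserves effectivity. -/
theorem nonneg_of_specializes {y s : S} (hys : y ⤳ s) (hne : y ≠ s) (x : f.fiber s) (w : A → ℤ)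
    (hw : ∀ ζ : f.fiber y, f.fiberι y ζ ⤳ f.fiberι s x → 0 ≤ ∑ a, w a * cyc f (ι a) y ζ) :
    0 ≤ ∑ a, w a * cyc f (ι a) s x := by
  obtain ⟨R, _, _, _, x₁, hs, hy⟩ := H46.DvrScheme.exists_dvr_of_specializes hys hne
  let α := pullback.snd f x₁
  let η := genericPoint ↥(Spec (CommRingCat.of R))
  let σ : ↥(Spec (CommRingCat.of R)) := IsLocalRing.closedPoint R
  have hF : ∀ b, IsPullback (α.fiberι b ≫ pullback.fst f x₁) (α.fiberToSpecResidueField b) f
      ((Spec (CommRingCat.of R)).fromSpecResidueField b ≫ x₁) := fun b =>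
    (IsPullback.of_hasPullback α ((Spec (CommRingCat.of R)).fromSpecResidueField b)).paste_horiz
      (IsPullback.of_hasPullback f x₁)
  have hpt : ∀ b c, ((Spec (CommRingCat.of R)).fromSpecResidueField b ≫ x₁) c = x₁ b := fun b c => by
    rw [Scheme.Hom.comp_apply, Scheme.fromSpecResidueField_apply]
  obtain ⟨gη, -, hgη, hcη⟩ := transfer f y (K := (Spec (CommRingCat.of R)).residueField η) (hF η)
    (fun c => (hpt η c).trans hy)
  obtain ⟨gs, hgs', hgs, hcs⟩ := transfer f s (K := (Spec (CommRingCat.of R)).residueField σ) (hF σ)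
    (fun c => (hpt σ c).trans hs)
  let W := fun a => pullback.map (ι a ≫ f) x₁ f x₁ (ι a) (𝟙 _) (𝟙 S) (Category.comp_id _)
    ((Category.comp_id _).trans (Category.id_comp _).symm)
  have hWa : ∀ a, W a ≫ α = pullback.snd (ι a ≫ f) x₁ := fun a =>
    (pullback.lift_snd _ _ _).trans (Category.comp_id _)
  haveI : ∀ a, IsClosedImmersion (W a) := fun a => Groth.Agent.H19.Equidim.isClosedImmersion_map (ι a) f x₁
  haveI : ∀ a, Flat (W a ≫ α) := fun a => by rw [hWa]; infer_instance
  have hrW : ∀ a z, FlatMor.fibreDimAt (W a ≫ α) z = r := fun a z => by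
    rw [hWa, Groth.Agent.H2.FibreDimPullback.fibreDimAt_of_isPullback (IsPullback.of_hasPullback (ι a ≫ f) x₁) z]
    exact H69.RelDimLocus.localDim_eq_of_hasRelDim (ι a ≫ f) (hr a) _
  have hWsq : ∀ a b, IsPullback (pullback.fst (W a) (α.fiberι b) ≫ pullback.fst (ι a ≫ f) x₁)
      (pullback.snd (W a) (α.fiberι b)) (ι a) (α.fiberι b ≫ pullback.fst f x₁) := fun a b => by
    refine (((IsPullback.of_hasPullback (W a) (α.fiberι b)).flip).paste_vert ?_).flip
    refine (IsPullback.of_bot ?_ (pullback.lift_fst _ _ _).symm (IsPullback.of_hasPullback f x₁)).flip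
    rw [hWa]
    exact IsPullback.of_hasPullback (ι a ≫ f) x₁
  let δη := FieldDim.fdelta (K := (Spec (CommRingCat.of R)).residueField η) (α.fiberToSpecResidueField η)
  let δs := FieldDim.fdelta (K := (Spec (CommRingCat.of R)).residueField σ) (α.fiberToSpecResidueField σ)
  have hδη : Cyc.DeltaCompat (α.fiberToSpecResidueField η) δη (fun _ => 0) :=
    FibreBC.deltaCompat_fdelta (K := (Spec (CommRingCat.of R)).residueField η) (α.fiberToSpecResidueField η)
  have hδs : Cyc.DeltaCompat (α.fiberToSpecResidueField σ) δs (fun _ => 0) :=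
    FibreBC.deltaCompat_fdelta (K := (Spec (CommRingCat.of R)).residueField σ) (α.fiberToSpecResidueField σ)
  haveI := hgs'
  obtain ⟨t₀, ht₀⟩ := gs.surjective x
  obtain ⟨t, ht, htm⟩ : ∃ t, gs t = x ∧ FibLen.IsMaxFib gs t := by
    obtain ⟨z, -⟩ := FieldDim.exists_fiberι_eq gs t₀ x ht₀
    obtain ⟨w, -, hmax⟩ := DimFun.exists_isMaxPt_specializes z
    exact ⟨gs.fiberι x w, FieldDim.apply_fiberι gs _ w, (FieldDim.isMaxFib_iff gs x w).2 hmax⟩
  haveI : IsLocallyNoetherian (α.fiber σ) := LocallyOfFiniteType.isLocallyNoetherian (α.fiberToSpecResidueField σ)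
  have hL : 0 < ((FibLen.fibLen gs t).toNat : ℤ) := by exact_mod_cast FibLen.toNat_fibLen_pos gs t htm
  refine nonneg_of_mul_nonneg_left ?_ hL
  rw [Finset.sum_mul]
  have e : ∀ a, w a * cyc f (ι a) s x * ((FibLen.fibLen gs t).toNat : ℤ) =
      w a * Cyc.spFun α η σ δη δs r (Cyc.subschemeFun δη r (pullback.snd (W a) (α.fiberι η))) t := fun a => by
    rw [congrFun (Groth.Agent.S1910.result R _ α δη δs hδη hδs r _ (W a) (FibreBC.fdelta_le α (W a) r (hrW a) η)).2 t,
      congrFun (FibreBC.subschemeFun_fiber α (W a) r (hrW a) σ) t, hcs (ι a) _ _ (hWsq a σ) t, ht, mul_assoc]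
  simp only [e]
  rw [← Groth.Agent.H19.Spec.Lin.spFun_sum]
  · simp only [Cyc.spFun]
    split_ifs
    swap
    · exact le_rfl
    refine finsum_nonneg fun ξ => mul_nonneg ?_ (Int.natCast_nonneg _)
    have e2 : ∀ a, w a * Cyc.subschemeFun δη r (pullback.snd (W a) (α.fiberι η)) ξ.1 =
        w a * cyc f (ι a) y (gη ξ.1) * ((FibLen.fibLen gη ξ.1).toNat : ℤ) := fun a => by
      rw [congrFun (FibreBC.subschemeFun_fiber α (W a) r (hrW a) η) ξ.1, hcη (ι a) _ _ (hWsq a η) ξ.1, mul_assoc]
    rw [Finset.sum_congr rfl fun a _ => e2 a, ← Finset.sum_mul]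
    refine mul_nonneg (hw _ ?_) (Int.natCast_nonneg _)
    rw [← Scheme.Hom.comp_apply, hgη, ← ht, ← Scheme.Hom.comp_apply gs, hgs, Scheme.Hom.comp_apply, Scheme.Hom.comp_apply]
    exact ξ.2.2.map (pullback.fst f x₁).continuous
  · intro a _
    refine (finite_cyc_support α (W a) η).subset fun ξ hξ => ?_
    have h := hξ.2.2
    rwa [congrFun (FibreBC.subschemeFun_fiber α (W a) r (hrW a) η) ξ] at h

include hr in
/-- The effective locus of a family of cycles is closed. -/
theorem isClosed_effective (n : A → ℤ) :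
    IsClosed {s : S | ∀ x : f.fiber s, 0 ≤ ∑ a, n a * cyc f (ι a) s x} := by
  classical
  haveI : IsLocallyNoetherian X := LocallyOfFiniteType.isLocallyNoetherian f
  haveI : CompactSpace X := QuasiCompact.compactSpace_of_compactSpace f
  haveI : IsNoetherian X := {}
  set E := {s : S | ∀ x : f.fiber s, 0 ≤ ∑ a, n a * cyc f (ι a) s x}
  have hst : ∀ y s, y ⤳ s → y ∈ E → s ∈ E := fun y s h hy x => by
    rcases eq_or_ne y s with rfl | hne
    · exact hy x
    · exact nonneg_of_specializes f r Z ι hr h hne x n fun ζ _ => hy ζ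
  have hbad : ∀ y ∉ E, ∃ U : Set S, IsOpen U ∧ y ∈ U ∧ ∀ s ∈ U, y ⤳ s → s ∉ E := by
    intro y hy
    obtain ⟨ξ, hξ⟩ : ∃ ξ : f.fiber y, ∑ a, n a * cyc f (ι a) y ξ < 0 := by
      simpa [E] using hy
    obtain ⟨a₀, ha₀⟩ : ∃ a, cyc f (ι a) y ξ ≠ 0 := by
      by_contra h
      push Not at h
      simp [h] at hξ
    let M : Set (f.fiber y) := ⋃ a, {ζ | cyc f (ι a) y ζ ≠ 0}
    have hM : M.Finite := Set.finite_iUnion fun a => finite_cyc_support f (ι a) y
    have hδr : ∀ ζ ∈ M, FieldDim.fdelta (K := S.residueField y) (f.fiberToSpecResidueField y) ζ = r := by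
      intro ζ hζ
      obtain ⟨a, ha⟩ := Set.mem_iUnion.1 hζ
      have h : cyc f (ι a) y ζ ≠ 0 := ha
      rw [cyc, ← congrFun (FibreBC.subschemeFun_fiber f (ι a) r
        (fun z => H69.RelDimLocus.localDim_eq_of_hasRelDim (ι a ≫ f) (hr a) z) y) ζ, Cyc.subschemeFun] at h
      by_contra hne
      rw [if_neg hne] at h
      exact h rfl
    let N : Set X := (⋃ ζ ∈ M \ {ξ}, closure {f.fiberι y ζ})ᶜ
    have hN : IsOpen N := ((hM.sdiff).isClosed_biUnion fun _ _ => isClosed_closure).isOpen_compl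
    have hξN : f.fiberι y ξ ∈ N := fun h => by
      obtain ⟨ζ, ⟨hζ, hne⟩, hm⟩ := Set.mem_iUnion₂.1 h
      have hsp : ζ ⤳ ξ := (FieldDim.fiber_specializes_iff f y ζ ξ).2 (specializes_iff_mem_closure.2 hm)
      have := (FieldDim.isDimFun_fdelta (K := S.residueField y) (f.fiberToSpecResidueField y) ζ ξ hsp hne).1
      rw [hδr ζ hζ, hδr ξ (Set.mem_iUnion.2 ⟨a₀, ha₀⟩)] at this
      exact lt_irrefl _ this
    let C : Set X := N ∩ closure {f.fiberι y ξ}
    haveI : LocallyOfFinitePresentation f := inferInstance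
    have hop : ∀ {V : Set X}, IsOpen V → Topology.IsConstructible V := fun hV =>
      (TopologicalSpace.NoetherianSpace.isCompact _).isConstructible hV
    have hC : Topology.IsConstructible C :=
      (hop hN).inter (by simpa using (hop (isClosed_closure (s := {f.fiberι y ξ})).isOpen_compl).compl)
    obtain ⟨U, hU, hne, hUC⟩ := (Groth.Agent.Lib.Spectral.Noetherian.dense_trace_iff
      ((isIrreducible_singleton (x := y)).closure) (f.isConstructible_image hC)).1
      (closure_minimal (Set.singleton_subset_iff.2 (subset_closure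
        ⟨⟨_, ⟨hξN, subset_closure rfl⟩, FieldDim.apply_fiberι f y ξ⟩, subset_closure rfl⟩)) isClosed_closure)
    have hyU : y ∈ U := by
      obtain ⟨z, hz, hzy⟩ := hne
      exact (specializes_iff_mem_closure.2 hzy).mem_open hU hz
    refine ⟨U, hU, hyU, fun s hs hys hsE => ?_⟩
    rcases eq_or_ne y s with rfl | hne'
    · exact hy hsE
    obtain ⟨x'', ⟨hxN, hxc⟩, hxs⟩ := hUC ⟨hs, hys.mem_closure⟩
    have hrange : f.fiberι y ξ ∈ Set.range (ι a₀) := by
      obtain ⟨z, -, hz⟩ := exists_of_cyc_ne _ ha₀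
      exact ⟨pullback.fst (ι a₀) (f.fiberι y) z, by
        rw [← hz, ← Scheme.Hom.comp_apply, pullback.condition, Scheme.Hom.comp_apply]⟩
    obtain ⟨z₀, hz₀⟩ := (ι a₀).isClosedEmbedding.isClosed_range.closure_subset_iff.2
      (Set.singleton_subset_iff.2 hrange) hxc
    obtain ⟨z, hz, hzs, hzm⟩ := H46.FibreTrdeg.exists_isMaxFib_specializes (ι a₀ ≫ f) z₀
    have hfz : f (ι a₀ z) = s := by
      rw [← Scheme.Hom.comp_apply, hz, Scheme.Hom.comp_apply, hz₀, hxs]
    obtain ⟨x, hx⟩ := FieldDim.exists_fiberι_eq f (ι a₀ z) s hfz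
    have hxN' : f.fiberι s x ∈ N := by
      rw [hx]
      exact (hzs.map (ι a₀).continuous).mem_open hN (hz₀ ▸ hxN)
    have hpos : 0 < cyc f (ι a₀) s x := by
      rw [← cyc_eq, show {w | ι a₀ w = f.fiberι s x} = {z} from
        Set.ext fun w => ⟨fun hw => (ι a₀).isEmbedding.injective (hw.trans hx), fun hw => (congrArg _ hw).trans hx.symm⟩,
        finsum_mem_singleton, FibLen.pullFun_apply, if_pos (add_zero _).symm, one_mul, Int.toNat_natCast]
      haveI : IsLocallyNoetherian (Z a₀) := LocallyOfFiniteType.isLocallyNoetherian (ι a₀)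
      exact_mod_cast FibLen.toNat_fibLen_pos (ι a₀ ≫ f) z hzm
    have hsum : ∀ (c d : ℤ) (v : A → ℤ), ∑ a, (-(c * n a) + d * (if a = a₀ then 1 else 0)) * v a =
        -(c * ∑ a, n a * v a) + d * v a₀ := fun c d v => by
      simp [add_mul, Finset.sum_add_distrib, mul_assoc, Finset.mul_sum]
    have key := nonneg_of_specializes f r Z ι hr hys hne' x
      (fun a => -(cyc f (ι a₀) y ξ * n a) + (∑ b, n b * cyc f (ι b) y ξ) * (if a = a₀ then 1 else 0)) fun ζ hζ => by
        have hζ' : ∀ a, cyc f (ι a) y ζ ≠ 0 → ζ = ξ := fun a ha => by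
          by_contra hne
          exact hxN' (Set.mem_iUnion₂.2 ⟨ζ, ⟨Set.mem_iUnion.2 ⟨a, ha⟩, hne⟩, hζ.mem_closure⟩)
        rw [hsum]
        by_cases h : ζ = ξ
        · subst h
          exact le_of_eq (by ring)
        · have h0 : ∀ a, cyc f (ι a) y ζ = 0 := fun a => by_contra fun ha => h (hζ' a ha)
          simp [h0]
    have h1 := (cyc_nonneg f (ι a₀) y ξ).lt_of_ne' ha₀
    have h2 := hsE x
    rw [hsum] at key
    nlinarith
  rw [← closure_subset_iff_isClosed]
  intro s hs
  obtain ⟨g, ⟨hg, hgmax⟩, hgs⟩ : ∃ g, (g ∈ closure E ∧ ∀ y ∈ closure E, y ⤳ g → y = g) ∧ g ⤳ s := by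
    haveI : QuasiSober (closure E) := isClosed_closure.isClosedEmbedding_subtypeVal.quasiSober
    obtain ⟨q, hq, hqc⟩ := H46.Equidim.exists_generic_of_mem_irreducibleComponents
      (irreducibleComponent_mem_irreducibleComponents (⟨s, hs⟩ : closure E))
    exact ⟨q.1, ⟨q.2, fun y hy hys => congrArg Subtype.val (hq ⟨y, hy⟩ ((subtype_specializes_iff _ _).2 hys))⟩,
      (specializes_iff_mem_closure.2 (hqc ▸ mem_irreducibleComponent : (⟨s, hs⟩ : closure E) ∈ closure {q})).map continuous_subtype_val⟩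
  refine hst g s hgs ?_
  by_contra hgE
  obtain ⟨U, hU, hgU, hUE⟩ := hbad g hgE
  let G : Set S := {q ∈ closure E | ∀ y ∈ closure E, y ⤳ q → y = q}
  have hG : G.Finite := DimFun.finite_maxPts isClosed_closure
  have hsub : E ⊆ (⋃ q ∈ G \ {g}, closure {q}) ∪ (closure {g} \ U) := fun e he => by
    haveI : QuasiSober (closure E) := isClosed_closure.isClosedEmbedding_subtypeVal.quasiSober
    obtain ⟨q, hq, hqc⟩ := H46.Equidim.exists_generic_of_mem_irreducibleComponents
      (irreducibleComponent_mem_irreducibleComponents (⟨e, subset_closure he⟩ : closure E))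
    have hqe : (q : S) ⤳ e :=
      (specializes_iff_mem_closure.2 (hqc ▸ mem_irreducibleComponent : (⟨e, subset_closure he⟩ : closure E) ∈ closure {q})).map continuous_subtype_val
    by_cases h : (q : S) = g
    · exact Or.inr ⟨(h ▸ hqe).mem_closure, fun heU => hUE e heU (h ▸ hqe) he⟩
    · exact Or.inl (Set.mem_iUnion₂.2 ⟨q.1, ⟨⟨q.2, fun y hy hys => congrArg Subtype.val (hq ⟨y, hy⟩ ((subtype_specializes_iff _ _).2 hys))⟩, h⟩, hqe.mem_closure⟩)
  rcases closure_minimal hsub ((hG.sdiff.isClosed_biUnion fun _ _ => isClosed_closure).union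
    (isClosed_closure.sdiff hU)) hg with h | h
  · obtain ⟨q, ⟨hq, hne⟩, hm⟩ := Set.mem_iUnion₂.1 h
    exact hne (hgmax q hq.1 (specializes_iff_mem_closure.2 hm))
  · exact h.2 hgU

end Groth.Agent.H19.Cycle.Effective
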