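import Groth.Agent.H19.Cycle.Image
import Groth.Agent.H19.Spec.Lin
import Groth.Agent.H69.RelDimLocus
import Groth.Agent.H75.RedSub
import Groth.Agent.S1910
import Groth.Agent.S19582
import Mathlib

/-!
# The fat-point pullback of the cycle of a flat family
-/

set_option autoImplicit false
set_option linter.style.haveILetI false

universe u

open CategoryTheory CategoryTheory.Limits AlgebraicGeometry IsLocalRing

namespace Groth.Agent.H19.Cycle.FatPoint

open Groth.Agent.Lib Groth.Agent.Lib.Cyc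

variable {X S Z : Scheme.{u}}

/-- The reduced closure of a point. -/
noncomputable abbrev jz (x : X) : (Scheme.IdealSheafData.vanishingIdeal
    (⟨closure {x}, isClosed_closure⟩ : TopologicalSpace.Closeds ↥X)).subscheme ⟶ X :=
  (Scheme.IdealSheafData.vanishingIdeal (⟨closure {x}, isClosed_closure⟩ : TopologicalSpace.Closeds ↥X)).subschemeι

theorem range_jz (x : X) : Set.range (jz x).base = closure {x} := by
  show Set.range (jz x) = _
  rw [Scheme.IdealSheafData.range_subschemeι, Scheme.IdealSheafData.coe_support_vanishingIdeal]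
  rfl

/-- The cycle of the reduced closure of a point is the point. -/
theorem subschemeFun_jz (x y : X) :
    Cyc.subschemeFun (fun _ => (0 : ℤ)) 0 (jz x) y = ({x} : Set X).indicator (fun _ => (1 : ℤ)) y := by
  haveI : IsReduced (Scheme.IdealSheafData.vanishingIdeal
      (⟨closure {x}, isClosed_closure⟩ : TopologicalSpace.Closeds ↥X)).subscheme := H75.RedSub.isReduced_vanishingIdeal _
  obtain ⟨g, hg⟩ : x ∈ Set.range (jz x) := by
    show x ∈ Set.range (jz x).base
    rw [range_jz]; exact subset_closure rfl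
  have hgen : ∀ v, g ⤳ v := fun v => (jz x).isEmbedding.isInducing.specializes_iff.1
    (by rw [hg]; exact specializes_iff_mem_closure.2 ((range_jz x).le ⟨v, rfl⟩))
  simp only [Cyc.subschemeFun, if_pos]
  by_cases hy : y = x
  · subst hy
    rw [Set.indicator_of_mem (s := ({y} : Set X)) rfl, show {z | jz y z = y} = {g} from Set.ext fun z =>
      ⟨fun h => (jz y).isEmbedding.injective ((h : _ = y).trans hg.symm), fun h => (congrArg _ (h : z = g)).trans hg⟩,
      finsum_mem_singleton]
    have hf : IsField ((Scheme.IdealSheafData.vanishingIdeal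
        (⟨closure {y}, isClosed_closure⟩ : TopologicalSpace.Closeds ↥X)).subscheme.presheaf.stalk g) := by
      rw [IsLocalRing.isField_iff_maximalIdeal_eq, eq_bot_iff]
      intro r hr
      exact (Image.isNilpotent_of_mem g (fun w hw => (hw.antisymm (hgen w)).eq) r hr).eq_zero
    letI := hf.toField
    rw [Module.length_eq_one (R := (Scheme.IdealSheafData.vanishingIdeal
        (⟨closure {y}, isClosed_closure⟩ : TopologicalSpace.Closeds ↥X)).subscheme.presheaf.stalk g)]
    rfl
  · rw [Set.indicator_of_notMem (s := ({x} : Set X)) (fun h => hy h)]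
    refine finsum_mem_eq_zero_of_forall_eq_zero fun z hz => ?_
    by_contra hne
    have hmax := Groth.Agent.H19.Equidim.isMaxPt_of_length_ne_top (x := z) (fun h => hne (by rw [h]; rfl))
    have hz' : jz x z = y := hz
    rw [← hmax g (hgen z), hg] at hz'
    exact hy hz'.symm

/-- A nil quotient of finite length lives at a maximal point. -/
theorem isMaxPt_of_quot {z : Z} (J : Ideal (Z.presheaf.stalk z)) (hJ : J ≤ nilradical _)
    (h : Module.length (Z.presheaf.stalk z) (Z.presheaf.stalk z ⧸ J) ≠ ⊤) : DimFun.IsMaxPt z := by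
  have h' : Module.length (Z.presheaf.stalk z ⧸ J) (Z.presheaf.stalk z ⧸ J) ≠ ⊤ := by
    rwa [Module.length_eq_of_surjective (R := Z.presheaf.stalk z ⧸ J) (S := Z.presheaf.stalk z)
      (M := Z.presheaf.stalk z ⧸ J) Ideal.Quotient.mk_surjective] at h
  haveI : IsFiniteLength (Z.presheaf.stalk z ⧸ J) (Z.presheaf.stalk z ⧸ J) := Module.length_ne_top_iff.1 h'
  haveI : IsArtinianRing (Z.presheaf.stalk z ⧸ J) := (isFiniteLength_iff_isNoetherian_isArtinian.1 ‹_›).2
  intro y hy
  have : y ∈ Set.range (Z.fromSpecStalk z) := by rw [Scheme.range_fromSpecStalk]; exact hy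
  obtain ⟨q, rfl⟩ := this
  have hJq : J ≤ q.asIdeal := hJ.trans (nilradical_le_prime q.asIdeal)
  haveI : (q.asIdeal.map (Ideal.Quotient.mk J)).IsPrime :=
    Ideal.map_isPrime_of_surjective Ideal.Quotient.mk_surjective (by rwa [Ideal.mk_ker])
  have hm := IsArtinianRing.isMaximal_of_isPrime (q.asIdeal.map (Ideal.Quotient.mk J))
  have hq : q.asIdeal.IsMaximal := by
    have := Ideal.comap_isMaximal_of_surjective (Ideal.Quotient.mk J) Ideal.Quotient.mk_surjective (K := q.asIdeal.map (Ideal.Quotient.mk J))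
    rwa [Ideal.comap_map_of_surjective _ Ideal.Quotient.mk_surjective, ← RingHom.ker_eq_comap_bot, Ideal.mk_ker,
      sup_eq_left.2 hJq] at this
  have : q = closedPoint (Z.presheaf.stalk z) := PrimeSpectrum.ext (IsLocalRing.eq_maximalIdeal hq)
  rw [this, Scheme.fromSpecStalk_closedPoint]

theorem nilradical_map_le {A B : Type u} [CommRing A] [CommRing B] (φ : A →+* B) :
    (nilradical A).map φ ≤ nilradical B :=
  Ideal.map_le_iff_le_comap.2 fun _ hr => mem_nilradical.2 ((mem_nilradical.1 hr).map φ)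

/-- The multiplicity of a point in the cycle of `Z ×_S S_red`. -/
noncomputable abbrev mult (f : Z ⟶ S) (ζ : Z) : ℤ :=
  ((Module.length (Z.presheaf.stalk ζ) (Z.presheaf.stalk ζ ⧸
    Ideal.map (f.stalkMap ζ).hom (nilradical (S.presheaf.stalk (f ζ))))).toNat : ℤ)

/-- Over a reduced maximal point the cycle of a flat family is the sum of its components. -/
theorem sum_closures (p : X ⟶ S) (ι : Z ⟶ X) [IsClosedImmersion ι] [Flat (ι ≫ p)]
    (A : Finset Z) (hA : ∀ ζ, ζ ∈ A ↔ DimFun.IsMaxPt ζ) (x : X)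
    (hred : _root_.IsReduced (S.presheaf.stalk (p x))) :
    Cyc.subschemeFun (fun _ => (0 : ℤ)) 0 ι x =
      ∑ ζ ∈ A, mult (ι ≫ p) ζ * Cyc.subschemeFun (fun _ => (0 : ℤ)) 0 (jz (ι ζ)) x := by
  classical
  simp only [subschemeFun_jz]
  simp only [Cyc.subschemeFun, if_pos]
  by_cases hx : ∃ u : Z, ι u = x ∧ u ∈ A
  · obtain ⟨u, rfl, hu⟩ := hx
    rw [show {z | ι z = ι u} = {u} from Set.ext fun z =>
      ⟨fun h => ι.isEmbedding.injective h, fun h => congrArg ι h⟩, finsum_mem_singleton,
      Finset.sum_eq_single u (fun ζ _ hne => by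
        rw [Set.indicator_of_notMem (s := ({ι ζ} : Set X)) fun h => hne (ι.isEmbedding.injective h).symm, mul_zero])
        (fun h => absurd hu h), Set.indicator_of_mem (s := ({ι u} : Set X)) rfl, mul_one]
    haveI : _root_.IsReduced (S.presheaf.stalk ((ι ≫ p) u)) := hred
    rw [mult, nilradical_eq_bot_iff.2 ‹_› |>.trans rfl, Ideal.map_bot]
    rw [(Submodule.quotEquivOfEqBot (⊥ : Ideal (Z.presheaf.stalk u)) rfl).length_eq]
  · rw [Finset.sum_eq_zero fun ζ hζ => by
      rw [Set.indicator_of_notMem (s := ({ι ζ} : Set X)) fun h => hx ⟨ζ, (h : x = ι ζ).symm, hζ⟩, mul_zero]]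
    refine finsum_mem_eq_zero_of_forall_eq_zero fun z hz => ?_
    by_contra hne
    exact hx ⟨z, hz, (hA z).2 (Groth.Agent.H19.Equidim.isMaxPt_of_length_ne_top (fun h => hne (by rw [h]; rfl)))⟩

variable {R : Type u} [CommRing R] [IsDomain R] [IsDiscreteValuationRing R]

/-- The flat closures over a trait are of relative dimension `r`. -/
theorem fibreDimAt_clMap [IsNoetherian S] [S.IsSeparated] [X.IsSeparated] (p : X ⟶ S) [LocallyOfFiniteType p]
    [QuasiCompact p] (ι : Z ⟶ X) [IsClosedImmersion ι] [Flat (ι ≫ p)] {r : ℕ} (hZ : Cyc.HasRelDim (ι ≫ p) r)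
    (x₁ : Spec (CommRingCat.of R) ⟶ S)
    (hx₁ : closure {x₁ (genericPoint (PrimeSpectrum R))} ∈ irreducibleComponents ↥S) {ζ : Z}
    (hζ : DimFun.IsMaxPt ζ) (w : (Image.genMap p x₁ (jz (ι ζ))).ker.subscheme) :
    FlatMor.fibreDimAt (Image.clMap p x₁ (jz (ι ζ)) ≫ pullback.snd p x₁) w = r := by
  haveI := H75.RedSub.isReduced_vanishingIdeal (X := X) ⟨closure {ι ζ}, isClosed_closure⟩
  have hs : DimFun.IsMaxPt ((ι ≫ p) ζ) := Groth.Agent.H19.Equidim.isMaxPt_image _ hζ
  have hz : closure {p.base (ι ζ)} ∈ irreducibleComponents ↥S := FieldDim.closure_mem_irreducibleComponents _ hs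
  have hr : topologicalKrullDim ↥(closure ({p.asFiber (ι ζ)} : Set ↥(p.fiber (p.base (ι ζ))))) = r := by
    rw [FieldDim.topologicalKrullDim_closure (K := S.residueField (p (ι ζ)))
      (p.fiberToSpecResidueField (p (ι ζ))) (p.asFiber (ι ζ)), H46.FibreTrdeg.fdelta_fiber, p.fiberι_asFiber,
      Int.toNat_natCast]
    have h := H69.RelDimLocus.localDim_eq_of_hasRelDim (ι ≫ p) hZ ζ
    rwa [H46.FibreTrdeg.fibreDimAt_of_isMaxFib _ (fun y _ hy => hζ y hy), H46.FibreTrdeg.trd_comp] at h
  have hx : closure {x₁.base ⟨⊥, Ideal.isPrime_bot⟩} ∈ irreducibleComponents ↥S := by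
    have e : genericPoint (PrimeSpectrum R) = ⟨⊥, Ideal.isPrime_bot⟩ := genericPoint_eq_bot_of_affine (CommRingCat.of R)
    rwa [e] at hx₁
  haveI : LocallyOfFiniteType ((Image.genMap p x₁ (jz (ι ζ))).ker.subschemeι ≫ pullback.snd (jz (ι ζ) ≫ p) x₁) := inferInstance
  have h := (Groth.Agent.S19582.result p (ι ζ) hz r hr (jz (ι ζ)) (range_jz _) R x₁ hx
    ((Image.genMap p x₁ (jz (ι ζ))).ker.subschemeι ≫ pullback.snd (jz (ι ζ) ≫ p) x₁) rfl _
    (𝟙 (Spec (CommRingCat.of R)))).1
  rw [Image.clMap_snd]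
  obtain ⟨v, hv, -⟩ := Groth.Agent.H19.Equidim.exists_pre
    (IsPullback.of_hasPullback ((Image.genMap p x₁ (jz (ι ζ))).ker.subschemeι ≫ pullback.snd (jz (ι ζ) ≫ p) x₁) (𝟙 _))
    w _ rfl
  have h2 := h v
  rwa [Groth.Agent.H2.FibreDimPullback.fibreDimAt_of_isPullback
    (IsPullback.of_hasPullback ((Image.genMap p x₁ (jz (ι ζ))).ker.subschemeι ≫ pullback.snd (jz (ι ζ) ≫ p) x₁) (𝟙 _)) v,
    hv] at h2

end Groth.Agent.H19.Cycle.FatPoint
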