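import Groth.Prelude.Def_Cyc
import Groth.Agent.H19.IntMult.BCClosed
import Groth.Agent.H19.IntMult.SectDiv
import Groth.Agent.H19.Equidim.Len
import Groth.Agent.Lib.Cyc.FP.Stalk
import Groth.Agent.H46.FibreTrdeg
import Mathlib

/-!
# Cycles of closed subschemes under flat base change
-/

set_option autoImplicit false
set_option linter.style.haveILetI false

universe u

open CategoryTheory CategoryTheory.Limits AlgebraicGeometry IsLocalRing
open scoped TensorProduct

namespace Groth.Agent.H19.Cycle.FibreBC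

open Groth.Agent.Lib Groth.Agent.Lib.Cyc Groth.Agent.H19.IntMult.BCClosed

variable {P Y V Q : Scheme.{u}} {q : P ⟶ Y} {i : V ⟶ Y} {j : Q ⟶ P} {v : Q ⟶ V}

/-- The kernel of a base change of a preimmersion lies in the ideal of the fibre. -/
theorem ker_le [IsPreimmersion i] [IsPreimmersion j] (H : IsPullback j v q i) (w : Q) :
    RingHom.ker (j.stalkMap w).hom ≤
      (maximalIdeal (Y.presheaf.stalk (q (j w)))).map (q.stalkMap (j w)).hom := by
  set x := j w with hx
  set I := (maximalIdeal (Y.presheaf.stalk (q x))).map (q.stalkMap x).hom with hI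
  have hy : q x = i (v w) := by
    rw [hx, ← Scheme.Hom.comp_apply, H.w, Scheme.Hom.comp_apply]
  have hle : I ≤ maximalIdeal (P.presheaf.stalk x) :=
    Ideal.map_le_iff_le_comap.2 fun r hr hu => hr (isUnit_of_map_unit (q.stalkMap x).hom r hu)
  haveI : Nontrivial (P.presheaf.stalk x ⧸ I) :=
    Ideal.Quotient.nontrivial_iff.2 fun h => (maximalIdeal.isMaximal (P.presheaf.stalk x)).ne_top
      (top_le_iff.1 (h ▸ hle))
  haveI : IsLocalRing (P.presheaf.stalk x ⧸ I) :=
    .of_surjective' (Ideal.Quotient.mk I) Ideal.Quotient.mk_surjective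
  let Q' : CommRingCat.{u} := CommRingCat.of (P.presheaf.stalk x ⧸ I)
  haveI : IsLocalRing Q' := ‹IsLocalRing (P.presheaf.stalk x ⧸ I)›
  let mk : P.presheaf.stalk x ⟶ Q' := CommRingCat.ofHom (Ideal.Quotient.mk I)
  obtain ⟨e, he⟩ := Groth.Agent.H46.FiberStalk.exists_factor_residueField q x Q' mk
    (fun r hr => Ideal.Quotient.eq_zero_iff_mem.2 (Ideal.mem_map_of_mem _ hr)) _ hy
  obtain ⟨ρ, hρ⟩ := exists_section (i := i) (v w)
  let h : Spec Q' ⟶ Q := H.lift (Spec.map mk ≫ P.fromSpecStalk x) (e ≫ ρ)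
    (by rw [Category.assoc, Category.assoc, hρ, he])
  have hhj : h ≫ j = Spec.map mk ≫ P.fromSpecStalk x := H.lift_fst _ _ _
  haveI hloc : IsLocalHom mk.hom :=
    .of_surjective (Ideal.Quotient.mk I) Ideal.Quotient.mk_surjective
  have hpt : h (closedPoint Q') = w := by
    apply j.isEmbedding.injective
    rw [← Scheme.Hom.comp_apply, hhj, Scheme.Hom.comp_apply]
    have : Spec.map mk (closedPoint Q') = closedPoint (P.presheaf.stalk x) :=
      IsLocalRing.comap_closedPoint mk.hom
    rw [this, Scheme.fromSpecStalk_closedPoint]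
  let φ : Q.presheaf.stalk w ⟶ Q' :=
    Q.presheaf.stalkSpecializes (specializes_of_eq hpt) ≫ Scheme.stalkClosedPointTo h
  have key : j.stalkMap w ≫ φ = mk := by
    apply Spec.map_injective
    rw [← cancel_mono (P.fromSpecStalk x), Spec.map_comp, Category.assoc,
      Scheme.SpecMap_stalkMap_fromSpecStalk, ← hhj, ← Category.assoc]
    congr 1
    simp only [φ, Spec.map_comp, Category.assoc,
      Scheme.SpecMap_stalkSpecializes_fromSpecStalk, Scheme.Spec_stalkClosedPointTo_fromSpecStalk]
  intro s hs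
  have : mk.hom s = 0 := by
    rw [← key]
    show φ.hom ((j.stalkMap w).hom s) = 0
    rw [RingHom.mem_ker.1 hs, map_zero]
  exact Ideal.Quotient.eq_zero_iff_mem.1 this

theorem map_maximal {A B : Type u} [CommRing A] [CommRing B] [IsLocalRing A] [IsLocalRing B] (φ : A →+* B)
    (hφ : Function.Surjective φ) : (maximalIdeal A).map φ = maximalIdeal B := by
  rcases Ideal.map_eq_top_or_isMaximal_of_surjective φ hφ (maximalIdeal.isMaximal A) with h | h
  · exfalso
    haveI := IsLocalHom.of_surjective φ hφ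
    exact (maximalIdeal.isMaximal B).ne_top (top_le_iff.1 (h ▸ Ideal.map_le_iff_le_comap.2
      fun r hr hu => hr (isUnit_of_map_unit φ r hu)))
  · exact IsLocalRing.eq_maximalIdeal h

theorem length_quot_eq {T' A A' : Type u} [CommRing T'] [CommRing A] [CommRing A']
    (J : Ideal T') (m : Ideal A) (α : A →+* A') (π : T' →+* A') (hπ : Function.Surjective π)
    (hk : RingHom.ker π ≤ J) (hJ : J.map π = m.map α) :
    Module.length A' (A' ⧸ m.map α) = Module.length T' (T' ⧸ J) := by
  refine Eq.trans ?_ (Groth.Agent.H19.IntMult.SectDiv.length_of_surj ((Ideal.Quotient.mk (m.map α)).comp π)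
    (Ideal.Quotient.mk_surjective.comp hπ) _ ?_).symm
  · exact Module.length_eq_of_surjective Ideal.Quotient.mk_surjective
  · rw [← RingHom.comap_ker, Ideal.mk_ker, ← hJ, Ideal.comap_map_of_surjective _ hπ]
    exact sup_of_le_left hk

/-- The fibres of a base change of a closed subscheme have the same lengths. -/
theorem fibLen_eq [IsPreimmersion i] [IsPreimmersion j] (H : IsPullback j v q i) (w : Q) :
    FibLen.fibLen v w = FibLen.fibLen q (j w) := by
  have key : ∀ (g : Q ⟶ Y) (_ : g = v ≫ i),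
      (maximalIdeal (Y.presheaf.stalk (g w))).map (g.stalkMap w).hom =
        (maximalIdeal (V.presheaf.stalk (v w))).map (v.stalkMap w).hom := by
    rintro g rfl
    rw [Scheme.Hom.stalkMap_comp]
    show (maximalIdeal (Y.presheaf.stalk (i (v w)))).map ((v.stalkMap w).hom.comp (i.stalkMap (v w)).hom) = _
    rw [← Ideal.map_map, map_maximal _ (i.stalkMap_surjective _)]
  have h2 := key (j ≫ q) H.w
  rw [Scheme.Hom.stalkMap_comp] at h2
  refine length_quot_eq _ _ (v.stalkMap w).hom (j.stalkMap w).hom (j.stalkMap_surjective w) (ker_le H w) ?_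
  rw [Ideal.map_map]
  exact h2

theorem length_stalk {A B : Scheme.{u}} (f : A ⟶ B) [Flat f] (a : A) :
    Module.length (A.presheaf.stalk a) (A.presheaf.stalk a) =
      Module.length (B.presheaf.stalk (f a)) (B.presheaf.stalk (f a)) * FibLen.fibLen f a := by
  letI := (f.stalkMap a).hom.toAlgebra
  haveI : IsLocalHom (algebraMap (B.presheaf.stalk (f a)) (A.presheaf.stalk a)) :=
    inferInstanceAs (IsLocalHom (f.stalkMap a).hom)
  haveI : Module.Flat (B.presheaf.stalk (f a)) (A.presheaf.stalk a) := Flat.stalkMap f a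
  have h : Module.length (A.presheaf.stalk a)
      (A.presheaf.stalk a ⊗[B.presheaf.stalk (f a)] B.presheaf.stalk (f a)) =
      Module.length (A.presheaf.stalk a) (A.presheaf.stalk a) :=
    (TensorProduct.AlgebraTensorModule.rid (B.presheaf.stalk (f a)) (A.presheaf.stalk a)
      (A.presheaf.stalk a)).length_eq
  rw [← h, IsLocalRing.length_baseChange]
  rfl

/-- Flat base change of the cycle of a closed subscheme. -/
theorem subschemeFun_baseChange [IsClosedImmersion i] [IsClosedImmersion j] [Flat q]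
    (H : IsPullback j v q i) (t : P) :
    Cyc.subschemeFun (fun _ => (0 : ℤ)) 0 j t =
      Cyc.subschemeFun (fun _ => (0 : ℤ)) 0 i (q t) * ((FibLen.fibLen q t).toNat : ℤ) := by
  haveI : Flat v := MorphismProperty.of_isPullback H ‹Flat q›
  simp only [Cyc.subschemeFun, if_pos]
  by_cases ht : t ∈ Set.range j
  · obtain ⟨w, rfl⟩ := ht
    have hq : i (v w) = q (j w) := by rw [← Scheme.Hom.comp_apply, ← H.w, Scheme.Hom.comp_apply]
    rw [show {z | j z = j w} = {w} from Set.ext fun z => ⟨fun h => j.isClosedEmbedding.injective h,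
        fun h => congrArg j h⟩, finsum_mem_singleton,
      show {z | i z = q (j w)} = {v w} from Set.ext fun z => ⟨fun h => i.isClosedEmbedding.injective (h.trans hq.symm),
        fun h => (congrArg i h).trans hq⟩, finsum_mem_singleton, length_stalk v w, fibLen_eq H w,
      ENat.toNat_mul, Nat.cast_mul]
  · rw [finsum_mem_eq_zero_of_forall_eq_zero (s := {z | j z = t}) fun z hz => absurd ⟨z, hz⟩ ht,
      finsum_mem_eq_zero_of_forall_eq_zero (s := {z | i z = q t}) fun z hz => ?_, zero_mul]
    obtain ⟨w, hw, -⟩ := Groth.Agent.H19.Equidim.exists_pre H t z hz.symm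
    exact absurd ⟨w, hw⟩ ht

/-- In a fibre of a closed subscheme of constant relative dimension `r` only the points of dimension
`r` carry finite lengths. -/
theorem subschemeFun_fiber {X S W : Scheme.{u}} (a : X ⟶ S) [LocallyOfFiniteType a] (ι : W ⟶ X) [IsClosedImmersion ι]
    (r : ℕ) (hr : ∀ w : W, FlatMor.fibreDimAt (ι ≫ a) w = r) (y : S) :
    Cyc.subschemeFun (FieldDim.fdelta (K := S.residueField y) (a.fiberToSpecResidueField y)) (r : ℤ)
        (pullback.snd ι (a.fiberι y)) =
      Cyc.subschemeFun (fun _ => (0 : ℤ)) 0 (pullback.snd ι (a.fiberι y)) := by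
  funext x
  simp only [Cyc.subschemeFun, if_pos]
  split_ifs with hx
  · rfl
  symm
  refine finsum_mem_eq_zero_of_forall_eq_zero fun z hz => ?_
  by_contra hne
  refine hx ?_
  have hmax := Groth.Agent.H19.Equidim.isMaxPt_of_length_ne_top (x := z) (fun h => hne (by rw [h]; rfl))
  have hxz : a.fiberι y x = ι (pullback.fst ι (a.fiberι y) z) := by
    rw [← (show _ = x from hz), ← Scheme.Hom.comp_apply, ← pullback.condition, Scheme.Hom.comp_apply]
  have hmf : H46.FibreTrdeg.IsMaxFib (ι ≫ a) (pullback.fst ι (a.fiberι y) z) := fun w hw hws => by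
    have hy : a (ι w) = y := by
      have h1 : a (a.fiberι y x) = y := by
        have : a.fiberι y x ∈ a ⁻¹' {y} := by rw [← a.range_fiberι y]; exact ⟨x, rfl⟩
        exact this
      rw [Scheme.Hom.comp_apply, Scheme.Hom.comp_apply, ← hxz, h1] at hw
      exact hw
    obtain ⟨x', hx'⟩ : ι w ∈ Set.range (a.fiberι y) := by rw [a.range_fiberι y]; exact hy
    obtain ⟨z', hz1, -⟩ := Groth.Agent.H19.Equidim.exists_pre (IsPullback.of_hasPullback ι (a.fiberι y)) w x' hx'.symm
    rw [← hz1] at hws ⊢
    exact congrArg _ (hmax z' ((pullback.fst ι (a.fiberι y)).isEmbedding.isInducing.specializes_iff.1 hws))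
  have h2 := hr (pullback.fst ι (a.fiberι y) z)
  rw [H46.FibreTrdeg.fibreDimAt_of_isMaxFib _ hmf, Nat.cast_inj, H46.FibreTrdeg.trd_comp, ← hxz] at h2
  rw [H46.FibreTrdeg.fdelta_fiber, h2]

/-- The points of a fibre of a closed subscheme of relative dimension `r` have dimension at most `r`. -/
theorem fdelta_le {X S W : Scheme.{u}} (a : X ⟶ S) [LocallyOfFiniteType a] (ι : W ⟶ X) [IsClosedImmersion ι]
    (r : ℕ) (hr : ∀ w : W, FlatMor.fibreDimAt (ι ≫ a) w = r) (y : S) (x : a.fiber y)
    (hx : a.fiberι y x ∈ Set.range ι) :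
    FieldDim.fdelta (K := S.residueField y) (a.fiberToSpecResidueField y) x ≤ (r : ℤ) := by
  obtain ⟨w, hw⟩ := hx
  have := H46.FibreTrdeg.trd_le_fibreDimAt (ι ≫ a) w
  rw [hr w, Nat.cast_le, H46.FibreTrdeg.trd_comp, hw] at this
  rw [H46.FibreTrdeg.fdelta_fiber]
  exact_mod_cast this

theorem deltaCompat_fdelta {X : Scheme.{u}} {K : Type u} [Field K] (f : X ⟶ Spec (CommRingCat.of K))
    [LocallyOfFiniteType f] : Cyc.DeltaCompat f (FieldDim.fdelta f) (fun _ => 0) := fun x =>
  ⟨(FieldDim.fdelta f x).toNat, FieldDim.trdegAt_eq_fdelta f x, by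
    rw [zero_add, Int.toNat_of_nonneg (FieldDim.fdelta_nonneg f x)]⟩

end Groth.Agent.H19.Cycle.FibreBC
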