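import Groth.Agent.H19.Cycle.FibreBC
import Groth.Agent.H19.Equidim.Len
import Groth.Agent.Lib.FibreDeg.Basic
import Mathlib

/-!
# Flat closures in families over a trait
-/

set_option autoImplicit false
set_option linter.style.haveILetI false

universe u

open CategoryTheory CategoryTheory.Limits AlgebraicGeometry IsLocalRing

namespace Groth.Agent.H19.Cycle.Image

open Groth.Agent.Lib Groth.Agent.Lib.Cyc

theorem flat_fromSpecStalk (X : Scheme.{u}) (x : X) : Flat (X.fromSpecStalk x) := by
  obtain ⟨U, hU, hxU, -⟩ := exists_isAffineOpen_mem_and_subset (X := X) (x := x) (U := ⊤) trivial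
  rw [← hU.fromSpecStalk_eq_fromSpecStalk hxU, IsAffineOpen.fromSpecStalk]
  haveI : Flat (Spec.map (X.presheaf.germ U x hxU)) := by
    rw [Flat.SpecMap_iff]
    letI : Algebra Γ(X, U) (X.presheaf.stalk x) := (X.presheaf.germ U x hxU).hom.toAlgebra
    haveI := hU.isLocalization_stalk ⟨x, hxU⟩
    exact RingHom.flat_algebraMap_iff.mpr
      (IsLocalization.flat (X.presheaf.stalk x) (hU.primeIdealOf ⟨x, hxU⟩).asIdeal.primeCompl)
  exact MorphismProperty.comp_mem _ _ _ this inferInstance

/-- The maximal ideal at a maximal point consists of nilpotents. -/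
theorem isNilpotent_of_mem {S : Scheme.{u}} (s : S) (hs : DimFun.IsMaxPt s)
    (r : S.presheaf.stalk s) (hr : r ∈ maximalIdeal (S.presheaf.stalk s)) : IsNilpotent r := by
  rw [← mem_nilradical, nilradical_eq_sInf, Ideal.mem_sInf]
  intro J hJ
  let p : Spec (S.presheaf.stalk s) := ⟨J, hJ⟩
  have hy : S.fromSpecStalk s p ⤳ s := by
    have : S.fromSpecStalk s p ∈ Set.range (S.fromSpecStalk s) := Set.mem_range_self p
    rwa [Scheme.range_fromSpecStalk] at this
  have : p = closedPoint (S.presheaf.stalk s) :=
    (S.fromSpecStalk s).isEmbedding.injective (by rw [Scheme.fromSpecStalk_closedPoint]; exact hs _ hy)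
  have hJm : J = maximalIdeal (S.presheaf.stalk s) := congrArg PrimeSpectrum.asIdeal this
  exact hJm ▸ hr

/-- Morphisms from field spectra onto a reduced maximal point are flat. -/
theorem flat_of_isMaxPt {S : Scheme.{u}} {K : Type u} [Field K] (f : Spec (CommRingCat.of K) ⟶ S)
    (hs : ∀ t, DimFun.IsMaxPt (f t)) (hred : ∀ t, _root_.IsReduced (S.presheaf.stalk (f t))) : Flat f := by
  obtain ⟨⟨x, φ⟩, rfl⟩ := (Scheme.SpecToEquivOfField K S).symm.surjective f
  have hx : ∀ t, (Spec.map φ ≫ S.fromSpecResidueField x) t = x := fun t => by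
    rw [Scheme.Hom.comp_apply, Scheme.fromSpecResidueField_apply]
  let t : Spec (CommRingCat.of K) := (closedPoint K : PrimeSpectrum K)
  have hmax : DimFun.IsMaxPt x := hx t ▸ hs t
  haveI : _root_.IsReduced (S.presheaf.stalk x) := hx t ▸ hred t
  have hb : Function.Bijective (S.residue x).hom :=
    ⟨(injective_iff_map_eq_zero _).2 fun r hr => (isNilpotent_of_mem x hmax r
      ((IsLocalRing.residue_eq_zero_iff r).1 hr)).eq_zero, IsLocalRing.residue_surjective⟩
  haveI : IsIso (S.residue x) := (ConcreteCategory.isIso_iff_bijective _).2 hb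
  haveI := flat_fromSpecStalk S x
  haveI : Flat (S.fromSpecResidueField x) :=
    MorphismProperty.comp_mem _ (Spec.map (S.residue x)) _ inferInstance ‹Flat (S.fromSpecStalk x)›
  haveI : Flat (Spec.map φ) := FibreDeg.Basic.flat_of_field (K := S.residueField x) (Spec.map φ)
  exact MorphismProperty.comp_mem _ _ _ ‹Flat (Spec.map φ)› ‹Flat (S.fromSpecResidueField x)›

variable {X S : Scheme.{u}} (p : X ⟶ S) {R : Type u} [CommRing R] [IsDomain R] [IsDiscreteValuationRing R]
  (x₁ : Spec (CommRingCat.of R) ⟶ S) {Y : Scheme.{u}} (jY : Y ⟶ X)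

/-- The map of the generic fibre. -/
noncomputable abbrev genMap : pullback (jY ≫ p) (Spec.map (CommRingCat.ofHom (algebraMap R (FractionRing R))) ≫ x₁) ⟶
    pullback (jY ≫ p) x₁ :=
  pullback.map _ _ _ _ (𝟙 Y) (Spec.map (CommRingCat.ofHom (algebraMap R (FractionRing R)))) (𝟙 S)
    ((Category.comp_id _).trans (Category.id_comp _).symm) (Category.comp_id _)

/-- The closed subscheme of `X_R` given by the flat closure. -/
noncomputable abbrev clMap : (genMap p x₁ jY).ker.subscheme ⟶ pullback p x₁ :=
  (genMap p x₁ jY).ker.subschemeι ≫ pullback.map (jY ≫ p) x₁ p x₁ jY (𝟙 _) (𝟙 S) (Category.comp_id _)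
    ((Category.comp_id _).trans (Category.id_comp _).symm)

theorem clMap_fst : clMap p x₁ jY ≫ pullback.fst p x₁ =
    (genMap p x₁ jY).ker.subschemeι ≫ pullback.fst (jY ≫ p) x₁ ≫ jY := by
  rw [Category.assoc]
  exact congrArg _ (pullback.lift_fst _ _ _)

theorem clMap_snd : clMap p x₁ jY ≫ pullback.snd p x₁ =
    (genMap p x₁ jY).ker.subschemeι ≫ pullback.snd (jY ≫ p) x₁ := by
  rw [Category.assoc]
  exact congrArg _ ((pullback.lift_snd _ _ _).trans (Category.comp_id _))

variable [IsClosedImmersion jY]

theorem isClosedImmersion_clMap : IsClosedImmersion (clMap p x₁ jY) := by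
  haveI := Groth.Agent.H19.Equidim.isClosedImmersion_map jY p x₁
  exact MorphismProperty.comp_mem _ _ _ inferInstance this

theorem quasiCompact_genMap : QuasiCompact (genMap p x₁ jY) := by
  have HW : IsPullback (genMap p x₁ jY) (pullback.snd (jY ≫ p) _) (pullback.snd (jY ≫ p) x₁)
      (Spec.map (CommRingCat.ofHom (algebraMap R (FractionRing R)))) := by
    refine IsPullback.of_right ?_ (pullback.lift_snd _ _ _) (IsPullback.of_hasPullback (jY ≫ p) x₁)
    rw [show genMap p x₁ jY ≫ pullback.fst (jY ≫ p) x₁ = pullback.fst _ _ from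
      (pullback.lift_fst _ _ _).trans (Category.comp_id _)]
    exact IsPullback.of_hasPullback _ _
  exact MorphismProperty.of_isPullback HW.flip inferInstance

theorem flat_clMap : Flat (clMap p x₁ jY ≫ pullback.snd p x₁) := by
  rw [clMap_snd]
  haveI := quasiCompact_genMap p x₁ jY
  exact Groth.Agent.H19.Equidim.flat_image _ _ _ (pullback.lift_snd _ _ _)

/-- Over the generic point the flat closure is the base change. -/
theorem isPullback_generic :
    IsPullback (pullback.snd (clMap p x₁ jY) ((pullback.snd p x₁).fiberι (genericPoint ↥(Spec (CommRingCat.of R)))))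
      (pullback.fst (clMap p x₁ jY) ((pullback.snd p x₁).fiberι (genericPoint ↥(Spec (CommRingCat.of R)))) ≫
        (genMap p x₁ jY).ker.subschemeι ≫ pullback.fst (jY ≫ p) x₁)
      ((pullback.snd p x₁).fiberι (genericPoint ↥(Spec (CommRingCat.of R))) ≫ pullback.fst p x₁) jY := by
  haveI := quasiCompact_genMap p x₁ jY
  haveI := isClosedImmersion_clMap p x₁ jY
  haveI := Groth.Agent.H19.Equidim.isOpenImmersion_specMap_fractionRing R
  set a := pullback.snd p x₁
  set η := genericPoint ↥(Spec (CommRingCat.of R)) with hη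
  set cl := clMap p x₁ jY
  have hw : pullback.snd cl (a.fiberι η) ≫ a.fiberι η ≫ pullback.fst p x₁ =
      (pullback.fst cl (a.fiberι η) ≫ (genMap p x₁ jY).ker.subschemeι ≫ pullback.fst (jY ≫ p) x₁) ≫ jY := by
    rw [← pullback.condition_assoc, clMap_fst]
    simp only [Category.assoc]
  -- the residue field of the generic point is the fraction field
  have hr : Set.range ((Spec (CommRingCat.of R)).fromSpecResidueField η) ⊆
      Set.range (Spec.map (CommRingCat.ofHom (algebraMap R (FractionRing R)))) := by
    rintro _ ⟨t, rfl⟩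
    rw [Scheme.fromSpecResidueField_apply]
    refine ⟨(Classical.arbitrary (PrimeSpectrum (FractionRing R)) : _), ?_⟩
    rw [Groth.Agent.H19.Equidim.specMap_fractionRing_apply, hη, genericPoint_eq_bot_of_affine]
    rfl
  let τ := IsOpenImmersion.lift (Spec.map (CommRingCat.ofHom (algebraMap R (FractionRing R))))
    ((Spec (CommRingCat.of R)).fromSpecResidueField η) hr
  have hτ : τ ≫ Spec.map (CommRingCat.ofHom (algebraMap R (FractionRing R))) =
      (Spec (CommRingCat.of R)).fromSpecResidueField η := IsOpenImmersion.lift_fac _ _ _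
  have hfac : ∀ (s : PullbackCone (a.fiberι η ≫ pullback.fst p x₁) jY),
      ∃ l : s.pt ⟶ pullback cl (a.fiberι η), l ≫ pullback.snd cl (a.fiberι η) = s.fst ∧
        l ≫ (pullback.fst cl (a.fiberι η) ≫ (genMap p x₁ jY).ker.subschemeι ≫ pullback.fst (jY ≫ p) x₁) = s.snd := by
    intro s
    have hc := s.condition
    have hw' : s.snd ≫ jY ≫ p = (s.fst ≫ a.fiberToSpecResidueField η ≫ τ) ≫
        Spec.map (CommRingCat.ofHom (algebraMap R (FractionRing R))) ≫ x₁ := by
      simp only [Category.assoc]
      rw [reassoc_of% hτ, ← reassoc_of% hc, pullback.condition]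
      congr 1
      exact (reassoc_of% (a.fiber_fac η)) x₁
    let w := pullback.lift s.snd (s.fst ≫ a.fiberToSpecResidueField η ≫ τ) hw'
    have h1 : (w ≫ (genMap p x₁ jY).toImage) ≫ cl = s.fst ≫ a.fiberι η := by
      have hfs : (genMap p x₁ jY).toImage ≫ (genMap p x₁ jY).ker.subschemeι = genMap p x₁ jY :=
        (genMap p x₁ jY).toImage_imageι
      apply pullback.hom_ext
      · rw [Category.assoc, Category.assoc, clMap_fst, reassoc_of% hfs]
        simp only [genMap, pullback.lift_fst_assoc, Category.assoc, Category.comp_id, Category.id_comp, w,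
          pullback.map]
        exact hc.symm
      · rw [Category.assoc, Category.assoc, clMap_snd, reassoc_of% hfs]
        simp only [genMap, pullback.lift_snd, pullback.lift_snd_assoc, Category.assoc, w, pullback.map]
        rw [hτ]
        exact congrArg (s.fst ≫ ·) (a.fiber_fac η).symm
    refine ⟨pullback.lift _ _ h1, pullback.lift_snd _ _ _, ?_⟩
    rw [pullback.lift_fst_assoc, Category.assoc, ← Category.assoc (genMap p x₁ jY).toImage,
      show (genMap p x₁ jY).toImage ≫ (genMap p x₁ jY).ker.subschemeι = genMap p x₁ jY from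
      (genMap p x₁ jY).toImage_imageι]
    simp only [genMap, pullback.map, pullback.lift_fst, Category.comp_id, w]
  choose l hl1 hl2 using hfac
  refine ⟨⟨hw⟩, ⟨PullbackCone.IsLimit.mk hw l hl1 hl2 fun s m hm _ => ?_⟩⟩
  rw [← cancel_mono (pullback.snd cl (a.fiberι η)), hm, hl1]

end Groth.Agent.H19.Cycle.Image
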